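import Mathlib
import Cfsg.Agent.H72.CS4.IsolA

/-!
# Structure of groups with an isolated abelian Hall subgroup (after helper364)
-/

set_option autoImplicit false

namespace Cfsg.Agent.H72.CS4

open Subgroup Cfsg.Agent.H364

/-- Conjugates of isolated subgroups are isolated. -/
theorem IsolA.conj {G : Type*} [Group G] {T : Subgroup G} {m : ℕ} (h : IsolA G T m) (g : G) :
    IsolA G (T.map (MulAut.conj g).toMonoidHom) m where
  ab := by
    rintro _ ⟨a, ha, rfl⟩ _ ⟨b, hb, rfl⟩
    rw [← map_mul, ← map_mul, h.ab a ha b hb]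
  card := by rw [Subgroup.card_map_of_injective (MulAut.conj g).injective, h.card]
  cop := h.cop
  edge := h.edge

theorem IsolA.card_normalizer_conj {G : Type*} [Group G] [Finite G] {T : Subgroup G} {m n : ℕ} (h : IsolA G T m)
    (hn : Nat.card (normalizer (T : Set G)) = m * n) (g : G) :
    Nat.card (normalizer ((T.map (MulAut.conj g).toMonoidHom : Subgroup G) : Set G)) = m * n := by
  rw [← hn]
  have h1 := Subgroup.map_equiv_normalizer_eq T (MulAut.conj g)
  change (normalizer (T : Set G)).map (MulAut.conj g).toMonoidHom =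
    normalizer ((T.map (MulAut.conj g).toMonoidHom : Subgroup G) : Set G) at h1
  rw [← h1, Subgroup.card_map_of_injective (MulAut.conj g).injective]

/-- **Structure theorem**, core free case. -/
theorem IsolA.struct_core {G : Type*} [Group G] [Finite G] {T : Subgroup G} {m n : ℕ} (h : IsolA G T m) (hm : 1 < m)
    (h2 : ¬ 2 ∣ m) (hn : Nat.card (normalizer (T : Set G)) = m * n)
    (hcor : ∀ L : Subgroup G, L.Normal → (Nat.card L).Coprime m → L = ⊥) :
    Nat.card G = m * n ∨ ∃ N : Subgroup G, N.Normal ∧ IsSimpleGroup N ∧ (¬ ∀ a b : N, a * b = b * a) ∧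
      centralizer (N : Set G) = ⊥ ∧ T ≤ N ∧ ∃ n', 1 < n' ∧ n' * N.index = n := by
  have hnt : Nontrivial G := by
    rw [← Finite.one_lt_card_iff_nontrivial]
    exact lt_of_lt_of_le hm (Nat.le_of_dvd Nat.card_pos h.dvd)
  obtain ⟨N, hNn, hN, hmin⟩ := exists_minimal_normal G
  obtain ⟨r, hr, hrN, hrm⟩ := Nat.Prime.not_coprime_iff_dvd.1 (fun hc => hN (hcor N hNn hc))
  have := Fact.mk hr
  rcases minimal_normal_cases N hN hmin hr hrN with hpg | ⟨k, S, hk, hSN, hS, hSna, hSr, hScard, hScomm, hSsup⟩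
  · left
    obtain ⟨R, hRT⟩ := h.exists_sylow hrm
    have h1 : N ≤ T := (hpg.le_sylow_of_normal R).trans hRT
    have h3 := h.normalizer_le h1 hN
    rw [Subgroup.normalizer_eq_top, top_le_iff] at h3
    rw [h3, Subgroup.card_top] at hn
    exact hn
  · right
    have hS2 : ∀ i, 2 ∣ Nat.card (S i) := fun i => by
      have := hS i
      exact two_dvd_card (hSna i)
    have hr2 : r ≠ 2 := by rintro rfl; exact h2 hrm
    have hk1 : k = 1 := by
      by_contra hne
      have h01 : (⟨0, hk⟩ : Fin k) ≠ ⟨1, by omega⟩ := by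
        intro h; simp at h
      exact (h.edge r 2 hr Nat.prime_two hrm h2).false_of_subgroups hr Nat.prime_two hr2
        (hScomm _ _ h01) (hSr _) (hS2 _)
    subst hk1
    have hNS : S 0 = N := by
      rw [← hSsup]
      exact (iSup_unique (f := S)).symm
    have hNs : IsSimpleGroup N := hNS ▸ hS 0
    have hNna : ¬ ∀ a b : N, a * b = b * a := hNS ▸ hSna 0
    have hN2 : 2 ∣ Nat.card N := hNS ▸ hS2 0
    have hcent : centralizer (N : Set G) = ⊥ := by
      refine hcor _ inferInstance ?_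
      by_contra hc
      obtain ⟨r', hr', hr'C, hr'm⟩ := Nat.Prime.not_coprime_iff_dvd.1 hc
      refine (h.edge r' 2 hr' Nat.prime_two hr'm h2).false_of_subgroups hr' Nat.prime_two
        (by rintro rfl; exact h2 hr'm) (A := centralizer (N : Set G)) (B := N) ?_ hr'C hN2
      intro a ha b hb
      exact (Subgroup.mem_centralizer_iff.1 ha b hb).symm
    obtain ⟨Q⟩ : Nonempty (Sylow r N) := inferInstance
    -- a conjugate `T'` of `T` containing the Sylow subgroup of `N`
    have hQp : IsPGroup r ((Q : Subgroup N).map N.subtype) := Q.isPGroup'.map _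
    obtain ⟨R, hRT⟩ := h.exists_sylow hrm
    obtain ⟨g, hg⟩ : ∃ g : G, (Q : Subgroup N).map N.subtype ≤ T.map (MulAut.conj g).toMonoidHom := by
      obtain ⟨R', hR'⟩ := hQp.exists_le_sylow
      obtain ⟨g, hg⟩ := MulAction.exists_smul_eq G R R'
      refine ⟨g, hR'.trans ?_⟩
      rw [← hg]
      exact Subgroup.map_mono hRT
    have h' := h.conj g
    set T' : Subgroup G := T.map (MulAut.conj g).toMonoidHom with hT'
    have hn' : Nat.card (normalizer (T' : Set G)) = m * n := h.card_normalizer_conj hn g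
    set Q' : Subgroup G := (Q : Subgroup N).map N.subtype with hQ'
    have hQ1 : (Q : Subgroup N) ≠ ⊥ := Q.ne_bot_of_dvd_card hrN
    have hQ'1 : Q' ≠ ⊥ := fun h => hQ1 ((Subgroup.map_eq_bot_iff_of_injective _ N.subtype_injective).1 h)
    have hle : normalizer (Q' : Set G) ≤ normalizer (T' : Set G) := h'.normalizer_le hg hQ'1
    have hsup : normalizer (T' : Set G) ⊔ N = ⊤ := by
      rw [eq_top_iff, ← Sylow.normalizer_sup_eq_top Q]
      exact sup_le_sup_right hle N
    obtain ⟨x, hxN, hxT, hxN'⟩ : ∃ x ∈ N, x ∉ T' ∧ x ∈ normalizer (T' : Set G) := by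
      by_contra hcon
      push Not at hcon
      have hle2 : normalizer ((Q : Subgroup N) : Set N) ≤ centralizer ((Q : Subgroup N) : Set N) := by
        intro x hx
        have h3 : (x : G) ∈ normalizer (Q' : Set G) := by
          rw [Subgroup.mem_normalizer_iff] at hx ⊢
          intro y
          rw [hQ', Subgroup.mem_map, Subgroup.mem_map]
          constructor
          · rintro ⟨z, hz, rfl⟩
            exact ⟨x * z * x⁻¹, (hx z).1 hz, rfl⟩
          · rintro ⟨z, hz, hzy⟩
            refine ⟨x⁻¹ * z * x, (hx _).2 (by simpa [mul_assoc] using hz), ?_⟩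
            have : (x : G)⁻¹ * (N.subtype z) * x = y := by rw [hzy]; simp [mul_assoc]
            rw [← this]; rfl
        have h4 : (x : G) ∈ T' := by
          by_contra h5
          exact hcon x x.2 h5 (hle h3)
        rw [Subgroup.mem_centralizer_iff]
        intro y hy
        apply Subtype.ext
        have h5 : (y : G) ∈ T' := hg ⟨y, hy, rfl⟩
        exact (h'.comm h5 h4).eq
      have hcompl := MonoidHom.ker_transferSylow_isComplement' Q hle2
      rcases (inferInstance : (MonoidHom.transferSylow Q hle2).ker.Normal).eq_bot_or_eq_top with h3 | h3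
      · rw [h3, Subgroup.isComplement'_bot_left] at hcompl
        apply hNna
        intro a b
        have ha : a ∈ (Q : Subgroup N) := hcompl ▸ Subgroup.mem_top a
        have hb : b ∈ (Q : Subgroup N) := hcompl ▸ Subgroup.mem_top b
        exact (Subgroup.mem_centralizer_iff.1 (hle2 (Subgroup.le_normalizer hb)) a ha)
      · rw [h3, Subgroup.isComplement'_top_left] at hcompl
        exact hQ1 hcompl
    have hT'N : T' ≤ N := by
      have hmem : ∀ t : T', x * t * x⁻¹ * (t : G)⁻¹ ∈ T' := fun t =>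
        T'.mul_mem ((Subgroup.mem_normalizer_iff.1 hxN' t).1 t.2) (T'.inv_mem t.2)
      let φ : T' → T' := fun t => ⟨x * t * x⁻¹ * (t : G)⁻¹, hmem t⟩
      have hinj : Function.Injective φ := by
        intro s t hst
        by_contra hne
        have h3 : x * s * x⁻¹ * (s : G)⁻¹ = x * t * x⁻¹ * (t : G)⁻¹ := congrArg Subtype.val hst
        have hu : ((t : G)⁻¹ * s) ∈ T' := T'.mul_mem (T'.inv_mem t.2) s.2
        have hu1 : ((t : G)⁻¹ * s) ≠ 1 := fun h5 => hne (Subtype.ext (inv_mul_eq_one.1 h5).symm)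
        apply h'.not_mem_conj hu hu1 hxT
        have h4 : Commute ((x : G) * t * x⁻¹) ((t : G)⁻¹) :=
          h'.comm ((Subgroup.mem_normalizer_iff.1 hxN' t).1 t.2) (T'.inv_mem t.2)
        calc x * ((t : G)⁻¹ * s) * x⁻¹ = (x * t * x⁻¹)⁻¹ * (x * s * x⁻¹ * (s : G)⁻¹) * s := by group
          _ = (x * t * x⁻¹)⁻¹ * ((x * t * x⁻¹) * (t : G)⁻¹) * s := by rw [h3]
          _ = (t : G)⁻¹ * s := by group
      have hsurj := Finite.surjective_of_injective hinj
      intro t ht
      obtain ⟨s, hs⟩ := hsurj ⟨t, ht⟩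
      have h3 : x * s * x⁻¹ * (s : G)⁻¹ = t := congrArg Subtype.val hs
      rw [← h3]
      have h4 : x * s * x⁻¹ * (s : G)⁻¹ = x * ((s : G) * x⁻¹ * (s : G)⁻¹) := by group
      rw [h4]
      exact N.mul_mem hxN (hNn.conj_mem _ (N.inv_mem hxN) _)
    have hTN : T ≤ N := by
      intro t ht
      have h3 : g * t * g⁻¹ ∈ N := hT'N ⟨t, ht, rfl⟩
      have := hNn.conj_mem _ h3 g⁻¹
      simpa [mul_assoc] using this
    refine ⟨N, hNn, hNs, hNna, hcent, hTN, ?_⟩
    -- indices
    have h3 : N.index = N.relIndex (normalizer (T' : Set G)) := by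
      rw [← Subgroup.relIndex_top_right, ← hsup, Subgroup.relIndex_sup_right]
    have h4 : Nat.card (N ⊓ normalizer (T' : Set G) : Subgroup G) * N.relIndex (normalizer (T' : Set G)) =
        Nat.card (normalizer (T' : Set G)) := by
      rw [← Subgroup.inf_relIndex_right N, ← Subgroup.relIndex_bot_left (N ⊓ normalizer (T' : Set G)),
        ← Subgroup.relIndex_bot_left (normalizer (T' : Set G))]
      exact Subgroup.relIndex_mul_relIndex _ _ _ bot_le inf_le_right
    have h5 : T' ≤ N ⊓ normalizer (T' : Set G) := le_inf hT'N Subgroup.le_normalizer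
    obtain ⟨n', hn''⟩ : m ∣ Nat.card (N ⊓ normalizer (T' : Set G) : Subgroup G) := by
      rw [← h'.card]; exact Subgroup.card_dvd_of_le h5
    refine ⟨n', ?_, ?_⟩
    · by_contra hlt
      have h6 : Nat.card (N ⊓ normalizer (T' : Set G) : Subgroup G) ≤ Nat.card T' := by
        rw [hn'', h'.card]
        calc m * n' ≤ m * 1 := Nat.mul_le_mul_left _ (by omega)
          _ = m := mul_one m
      have h7 := Subgroup.eq_of_le_of_card_ge h5 h6
      exact hxT (h7 ▸ (⟨hxN, hxN'⟩ : x ∈ N ⊓ normalizer (T' : Set G)))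
    · rw [hn', hn'', ← h3, mul_assoc] at h4
      exact Nat.eq_of_mul_eq_mul_left h.pos h4

variable {G : Type*} [Group G] [Finite G] {T : Subgroup G} {m : ℕ}

theorem IsolA.quotient (h : IsolA G T m) {K : Subgroup G} [K.Normal] (hK : (Nat.card K).Coprime m) :
    IsolA (G ⧸ K) (T.map (QuotientGroup.mk' K)) m := by
  have hdisj : T ⊓ K = ⊥ := by
    rw [← Subgroup.card_eq_one]
    have h1 : Nat.card (T ⊓ K : Subgroup G) ∣ m := h.card ▸ Subgroup.card_dvd_of_le inf_le_left
    have h2 : Nat.card (T ⊓ K : Subgroup G) ∣ Nat.card K := Subgroup.card_dvd_of_le inf_le_right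
    exact Nat.eq_one_of_dvd_coprimes hK h2 h1
  have hcard : Nat.card (T.map (QuotientGroup.mk' K)) = m := by
    rw [← h.card]
    refine (Nat.card_congr (Equiv.ofBijective (fun t : T => (⟨QuotientGroup.mk' K t, Subgroup.mem_map_of_mem _ t.2⟩ :
      T.map (QuotientGroup.mk' K))) ⟨?_, ?_⟩)).symm
    · intro s t hst
      have h1 : QuotientGroup.mk' K (s : G) = QuotientGroup.mk' K (t : G) := congrArg Subtype.val hst
      have h2 : (s : G)⁻¹ * t ∈ K := QuotientGroup.eq.1 h1
      have h3 : (s : G)⁻¹ * t ∈ T ⊓ K := ⟨T.mul_mem (T.inv_mem s.2) t.2, h2⟩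
      rw [hdisj, Subgroup.mem_bot] at h3
      exact Subtype.ext (inv_mul_eq_one.1 h3)
    · rintro ⟨x, hx⟩
      obtain ⟨t, ht, rfl⟩ := Subgroup.mem_map.1 hx
      exact ⟨⟨t, ht⟩, rfl⟩
  have hGK : Nat.card G = Nat.card K * Nat.card (G ⧸ K) := by
    rw [← Subgroup.card_mul_index K, Subgroup.index_eq_card]
  have hm : m ∣ Nat.card (G ⧸ K) := hcard ▸ Subgroup.card_subgroup_dvd_card _
  refine ⟨?_, hcard, ?_, fun r s hr hs hrm hsm => noEdge_quotient K (h.edge r s hr hs hrm hsm)⟩
  · rintro _ ⟨a, ha, rfl⟩ _ ⟨b, hb, rfl⟩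
    rw [← map_mul, ← map_mul, h.ab a ha b hb]
  · have h1 := h.cop
    rw [hGK, Nat.mul_div_assoc _ hm] at h1
    exact Nat.Coprime.coprime_dvd_right (Dvd.intro_left _ rfl) h1

/-- **General structure theorem** for a finite group with an isolated cyclic Hall subgroup of odd order `m > 1`. -/
theorem IsolA.struct (h : IsolA G T m) (hm : 1 < m) (h2 : ¬ 2 ∣ m) :
    ∃ (K : Subgroup G) (_ : K.Normal) (n : ℕ), (Nat.card K).Coprime m ∧
      (∀ t, t.Prime → m ∣ t ^ (Nat.card K).factorization t - 1) ∧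
      (∀ r, r.Prime → r ∣ m → n ∣ r ^ m.factorization r - 1 ∧
        Nat.card G / m ≡ n [MOD r ^ m.factorization r]) ∧
      (Nat.card G = Nat.card K * (m * n) ∨
        ∃ N : Subgroup (G ⧸ K), N.Normal ∧ IsSimpleGroup N ∧ (¬ ∀ a b : N, a * b = b * a) ∧
          centralizer (N : Set (G ⧸ K)) = ⊥ ∧ m ∣ Nat.card N ∧ ∃ n', 1 < n' ∧ n' * N.index = n) := by
  obtain ⟨K, hKn, hKm, hmax⟩ := exists_core G m
  have hGK : Nat.card G = Nat.card K * Nat.card (G ⧸ K) := by
    rw [← Subgroup.card_mul_index K, Subgroup.index_eq_card]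
  have hq := h.quotient hKm
  obtain ⟨n, hn, hnr⟩ := hq.exists_n
  have hparts : ∀ t, t.Prime → m ∣ t ^ (Nat.card K).factorization t - 1 := by
    intro t ht
    by_cases htm : t ∣ m
    · have h3 : ¬ t ∣ Nat.card K := fun h4 => by
        have := Nat.dvd_gcd h4 htm
        rw [hKm] at this
        exact ht.one_lt.ne' (Nat.dvd_one.1 this)
      rw [Nat.factorization_eq_zero_of_not_dvd h3, pow_zero, Nat.sub_self]
      exact dvd_zero m
    · apply dvd_of_prime_parts h.pos.ne'
      intro r hr hrm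
      rw [h.factorization_eq hr hrm]
      refine congr_one K hr ht ?_ ?_ (h.edge r t hr ht hrm htm)
      · rintro rfl; exact htm hrm
      · intro h4
        have := Nat.dvd_gcd h4 hrm
        rw [hKm] at this
        exact hr.one_lt.ne' (Nat.dvd_one.1 this)
  have hK1 : Nat.card K ≡ 1 [MOD m] := modEq_one_of_parts Nat.card_pos.ne' hparts
  refine ⟨K, hKn, n, hKm, hparts, fun r hr hrm => ⟨hnr r hr hrm, ?_⟩, ?_⟩
  · have h3 := hq.modEq hn hr hrm
    have h4 : Nat.card G / m = Nat.card K * (Nat.card (G ⧸ K) / m) := by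
      rw [hGK, Nat.mul_div_assoc _ hq.dvd]
    rw [h4]
    have h5 : Nat.card K ≡ 1 [MOD r ^ m.factorization r] := Nat.ModEq.of_dvd (Nat.ordProj_dvd m r) hK1
    simpa using h5.mul h3
  · rcases hq.struct_core hm h2 hn (core_quotient hKm hmax) with h3 | ⟨N, h3, h4, h5, h6, h7, h8⟩
    · left
      rw [hGK, h3]
    · right
      refine ⟨N, h3, h4, h5, h6, ?_, h8⟩
      rw [← hq.card]
      exact Subgroup.card_dvd_of_le h7

end Cfsg.Agent.H72.CS4
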